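/-
The degree zero cohomology functor of a t-structure is homological (BBD 1.3.6).
-/
import Mathlib

universe v u v' u'

open CategoryTheory CategoryTheory.Limits Pretriangulated Triangulated

namespace Groth.Agent.H0Hom

variable {C : Type u} [Category.{v} C] [Preadditive C] [HasZeroObject C] [HasShift C ℤ]
  [∀ n : ℤ, (shiftFunctor C n).Additive] [Pretriangulated C] [IsTriangulated C] {t : TStructure C}
  {H : Type u'} [Category.{v'} H] [Abelian H] [t.Heart H] {H0 : C ⥤ H}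
  (e : H0 ⋙ t.ιHeart ≅ t.truncGE 0 ⋙ t.truncLE 0)

include e in
theorem preservesZero : H0.PreservesZeroMorphisms := by
  refine ⟨fun X Y => t.ιHeart.map_injective ?_⟩
  rw [← cancel_mono (e.hom.app Y)]
  have := e.hom.naturality (0 : X ⟶ Y)
  simpa using this

include e in
theorem mono_map (T : Triangle C) (hT : T ∈ distTriang C) (h₃ : t.IsGE T.obj₃ 0) :
    Mono (H0.map T.mor₁) := by
  rw [Preadditive.mono_iff_cancel_zero]
  intro W k hk
  let φ : t.ιHeart.obj W ⟶ (t.truncGE 0).obj T.obj₁ :=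
    t.ιHeart.map k ≫ e.hom.app T.obj₁ ≫ (t.truncLEι 0).app ((t.truncGE 0).obj T.obj₁)
  have hφ : φ ≫ (t.truncGE 0).map T.mor₁ = 0 := by
    have h2 := (t.truncLEι 0).naturality ((t.truncGE 0).map T.mor₁)
    have h3 := e.hom.naturality T.mor₁
    dsimp at h2 h3
    simp only [φ, Category.assoc]
    rw [← h2, ← reassoc_of% h3, ← Functor.map_comp_assoc, hk]
    simp
  have h0 : φ = 0 := by
    have := t.isIso₁_truncLT_map_of_isGE T hT 0 h₃
    have hδ := (t.truncGEδLT 0).naturality T.mor₁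
    dsimp at hδ
    have h4 : φ ≫ (t.truncGEδLT 0).app T.obj₁ = 0 := by
      rw [← cancel_mono (((t.truncLT 0).map T.mor₁)⟦(1 : ℤ)⟧'), Category.assoc, ← hδ, reassoc_of% hφ,
        zero_comp, zero_comp]
    obtain ⟨ψ, hψ⟩ : ∃ ψ : t.ιHeart.obj W ⟶ T.obj₁, φ = ψ ≫ (t.truncGEπ 0).app T.obj₁ :=
      Triangle.coyoneda_exact₃ _ (t.triangleLTGE_distinguished 0 T.obj₁) φ h4
    obtain ⟨χ, hχ⟩ : ∃ χ : t.ιHeart.obj W ⟶ (t.truncLT 0).obj T.obj₂,
        ψ ≫ T.mor₁ = χ ≫ (t.truncLTι 0).app T.obj₂ :=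
      Triangle.coyoneda_exact₂ _ (t.triangleLTGE_distinguished 0 T.obj₂) (ψ ≫ T.mor₁) (by
        show (ψ ≫ T.mor₁) ≫ (t.truncGEπ 0).app T.obj₂ = 0
        rw [Category.assoc, ← t.truncGEπ_naturality, ← Category.assoc, ← hψ, hφ])
    let χ' : t.ιHeart.obj W ⟶ T.obj₁ := χ ≫ inv ((t.truncLT 0).map T.mor₁) ≫ (t.truncLTι 0).app T.obj₁
    have h5 : (ψ - χ') ≫ T.mor₁ = 0 := by
      have := (t.truncLTι 0).naturality T.mor₁
      dsimp at this
      simp only [χ', Preadditive.sub_comp, Category.assoc, ← this, IsIso.inv_hom_id_assoc, hχ, sub_self]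
    obtain ⟨η, hη⟩ := Triangle.coyoneda_exact₁ T hT ((ψ - χ')⟦(1 : ℤ)⟧') (by
      rw [← Functor.map_comp, h5, Functor.map_zero])
    have : t.IsLE ((t.ιHeart.obj W)⟦(1 : ℤ)⟧) (-1) := t.isLE_shift _ 0 1 (-1) (by omega)
    have h6 : η = 0 := t.zero η (-1) 0 (by omega)
    have h7 : ψ = χ' := by
      rw [← sub_eq_zero]
      exact (shiftFunctor C (1 : ℤ)).map_injective (by rw [hη, h6, zero_comp, Functor.map_zero])
    rw [hψ, h7]
    simp [χ']
  refine t.ιHeart.map_injective ?_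
  rw [Functor.map_zero, ← cancel_mono (e.hom.app T.obj₁), zero_comp]
  exact t.to_truncLE_obj_ext (by rw [zero_comp, Category.assoc]; exact h0)

include e in
theorem exists_factor (T : Triangle C) (hT : T ∈ distTriang C) (h₁ : t.IsLE T.obj₁ 0) {W : H}
    (φ : H0.obj T.obj₂ ⟶ W) (hφ : H0.map T.mor₁ ≫ φ = 0) :
    ∃ ψ : H0.obj T.obj₃ ⟶ W, H0.map T.mor₂ ≫ ψ = φ := by
  let e2 : H0 ⋙ t.ιHeart ≅ t.truncLE 0 ⋙ t.truncGE 0 := e ≪≫ (t.truncGELEIsoLEGE 0 0).symm
  let φC : (t.truncLE 0).obj T.obj₂ ⟶ t.ιHeart.obj W :=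
    (t.truncGEπ 0).app ((t.truncLE 0).obj T.obj₂) ≫ e2.inv.app T.obj₂ ≫ t.ιHeart.map φ
  let f' := t.liftTruncLE T.mor₁ 0
  have hf' : f' ≫ φC = 0 := by
    have hf : (t.truncLE 0).map T.mor₁ ≫ φC = 0 := by
      have h3 := e2.inv.naturality T.mor₁
      dsimp at h3
      simp only [φC]
      rw [← t.truncGEπ_naturality_assoc, reassoc_of% h3, ← Functor.map_comp, hφ]
      simp
    have h2 : (t.truncLEι 0).app T.obj₁ ≫ f' = (t.truncLE 0).map T.mor₁ := by
      refine t.to_truncLE_obj_ext ?_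
      rw [Category.assoc, t.liftTruncLE_ι]
      exact ((t.truncLEι 0).naturality T.mor₁).symm
    rw [← cancel_epi ((t.truncLEι 0).app T.obj₁), reassoc_of% h2, hf, comp_zero]
  obtain ⟨V, v, w, hV⟩ := distinguished_cocone_triangle f'
  let o := someOctahedron (t.liftTruncLE_ι T.mor₁ 0) hV (t.triangleLEGE_distinguished 0 1 (by omega) T.obj₂) hT
  have hX : t.IsLE (T.obj₁⟦(1 : ℤ)⟧) 0 := by
    have : t.IsLE (T.obj₁⟦(1 : ℤ)⟧) (-1) := t.isLE_shift _ 0 1 (-1) (by omega)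
    exact t.isLE_of_le _ (-1) 0 (by omega)
  have hVle : t.IsLE V 0 := t.isLE₂ _ (rot_of_distTriang _ hV)
    0 (inferInstanceAs (t.IsLE ((t.truncLE 0).obj T.obj₂) 0)) hX
  have hK : t.IsGE ((t.truncGE 1).obj T.obj₂) 1 := inferInstance
  have hiso : IsIso ((t.truncLE 0).map o.m₁) := t.isIso₁_truncLE_map_of_isGE _ o.mem 0 1 rfl hK
  let z := inv ((t.truncLEι 0).app V) ≫ (t.truncLE 0).map o.m₁
  have hz : v ≫ z = (t.truncLE 0).map T.mor₂ := by
    refine t.to_truncLE_obj_ext ?_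
    have h := (t.truncLEι 0).naturality o.m₁
    have h' := (t.truncLEι 0).naturality T.mor₂
    dsimp at h h'
    simp only [z, Category.assoc, h, IsIso.inv_hom_id_assoc]
    rw [h']
    exact o.comm₁
  obtain ⟨φ', hφ'⟩ : ∃ φ' : V ⟶ t.ιHeart.obj W, φC = v ≫ φ' := Triangle.yoneda_exact₂ _ hV φC hf'
  let h := t.descTruncGE (inv z ≫ φ') 0
  obtain ⟨ψ, hψ⟩ := t.ιHeart.map_surjective (e2.hom.app T.obj₃ ≫ h)
  refine ⟨ψ, t.ιHeart.map_injective ?_⟩
  rw [Functor.map_comp, hψ]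
  have h3 := e2.hom.naturality T.mor₂
  dsimp at h3
  rw [reassoc_of% h3]
  have h4 : (t.truncGE 0).map ((t.truncLE 0).map T.mor₂) ≫ h = e2.inv.app T.obj₂ ≫ t.ιHeart.map φ := by
    refine t.from_truncGE_obj_ext ?_
    erw [t.truncGEπ_naturality_assoc, t.π_descTruncGE]
    rw [← hz, Category.assoc, IsIso.hom_inv_id_assoc, ← hφ']
  rw [h4]
  simp

include e in
theorem exact_of_isLE (T : Triangle C) (hT : T ∈ distTriang C) (h₁ : t.IsLE T.obj₁ 0)
    (w : H0.map T.mor₁ ≫ H0.map T.mor₂ = 0) :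
    kernel.ι (H0.map T.mor₂) ≫ cokernel.π (H0.map T.mor₁) = 0 := by
  obtain ⟨ψ, hψ⟩ := exists_factor e T hT h₁ (cokernel.π (H0.map T.mor₁)) (cokernel.condition _)
  rw [← hψ, kernel.condition_assoc, zero_comp]

include e in
theorem isHomological : H0.IsHomological := by
  have := preservesZero e
  refine { exact := fun T hT => ?_ }
  obtain ⟨U, u, w, hU⟩ := distinguished_cocone_triangle ((t.truncLEι 0).app T.obj₁ ≫ T.mor₁)
  let o := someOctahedron rfl (t.triangleLEGE_distinguished 0 1 (by omega) T.obj₁) hT hU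
  have hK : t.IsGE (((t.truncGE 1).obj T.obj₁)⟦(1 : ℤ)⟧) 0 := t.isGE_shift _ 1 1 0 (by omega)
  have hm : Mono (H0.map o.m₃) := mono_map e _ (rot_of_distTriang _ o.mem) hK
  have hex : kernel.ι (H0.map u) ≫ cokernel.π (H0.map ((t.truncLEι 0).app T.obj₁ ≫ T.mor₁)) = 0 := exact_of_isLE e _ hU (inferInstanceAs (t.IsLE ((t.truncLE 0).obj T.obj₁) 0))
    (by rw [← H0.map_comp]; exact (congrArg H0.map (comp_distTriang_mor_zero₁₂ _ hU)).trans (H0.map_zero _ _))
  rw [ShortComplex.exact_iff_kernel_ι_comp_cokernel_π_zero]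
  have hk : kernel.ι (H0.map T.mor₂) ≫ H0.map u = 0 := by
    rw [← cancel_mono (H0.map o.m₃), Category.assoc, ← H0.map_comp, zero_comp]
    exact (congrArg (fun x => kernel.ι (H0.map T.mor₂) ≫ H0.map x) o.comm₃).trans (kernel.condition _)
  have hc : H0.map ((t.truncLEι 0).app T.obj₁ ≫ T.mor₁) ≫ cokernel.π (H0.map T.mor₁) = 0 := by
    rw [H0.map_comp, Category.assoc, cokernel.condition, comp_zero]
  have := congrArg (fun x => kernel.lift (H0.map u) (kernel.ι (H0.map T.mor₂)) hk ≫ x ≫ cokernel.desc _ _ hc) hex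
  dsimp at this ⊢
  rw [zero_comp, comp_zero, Category.assoc, cokernel.π_desc, kernel.lift_ι_assoc] at this
  exact this

end Groth.Agent.H0Hom
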